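import Cfsg.Agent.Lib.Fischer.C24.A

set_option autoImplicit false
set_option maxRecDepth 100000

namespace Cfsg.Agent.Fi.C24

open Cfsg.Agent.PC

theorem r165000 : Nat.beq (rng row (nat_lit 165000) (nat_lit 3000)) (nat_lit 0) = true := by decide +kernel
theorem r168000 : Nat.beq (rng row (nat_lit 168000) (nat_lit 3000)) (nat_lit 0) = true := by decide +kernel
theorem r171000 : Nat.beq (rng row (nat_lit 171000) (nat_lit 3000)) (nat_lit 0) = true := by decide +kernel
theorem r174000 : Nat.beq (rng row (nat_lit 174000) (nat_lit 3000)) (nat_lit 0) = true := by decide +kernel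
theorem r177000 : Nat.beq (rng row (nat_lit 177000) (nat_lit 3000)) (nat_lit 0) = true := by decide +kernel

end Cfsg.Agent.Fi.C24
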