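import Cfsg.Agent.Lib.Fischer.C24.A

set_option autoImplicit false
set_option maxRecDepth 100000

namespace Cfsg.Agent.Fi.C24

open Cfsg.Agent.PC

theorem r270000 : Nat.beq (rng row (nat_lit 270000) (nat_lit 3000)) (nat_lit 0) = true := by decide +kernel
theorem r273000 : Nat.beq (rng row (nat_lit 273000) (nat_lit 3000)) (nat_lit 0) = true := by decide +kernel
theorem r276000 : Nat.beq (rng row (nat_lit 276000) (nat_lit 3000)) (nat_lit 0) = true := by decide +kernel
theorem r279000 : Nat.beq (rng row (nat_lit 279000) (nat_lit 3000)) (nat_lit 0) = true := by decide +kernel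
theorem r282000 : Nat.beq (rng row (nat_lit 282000) (nat_lit 3000)) (nat_lit 0) = true := by decide +kernel

end Cfsg.Agent.Fi.C24
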