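import Cfsg.Agent.Lib.Fischer.C24.R0
import Cfsg.Agent.Lib.Fischer.C24.R1
import Cfsg.Agent.Lib.Fischer.C24.R2
import Cfsg.Agent.Lib.Fischer.C24.R3
import Cfsg.Agent.Lib.Fischer.C24.R4
import Cfsg.Agent.Lib.Fischer.C24.R5
import Cfsg.Agent.Lib.Fischer.C24.R6
import Cfsg.Agent.Lib.Fischer.C24.R7
import Cfsg.Agent.Lib.Fischer.C24.R8
import Cfsg.Agent.Lib.Fischer.C24.R9
import Cfsg.Agent.Lib.Fischer.C24.R10
import Cfsg.Agent.Lib.Fischer.C24.R11
import Cfsg.Agent.Lib.Fischer.C24.R12
import Cfsg.Agent.Lib.Fischer.C24.R13
import Cfsg.Agent.Lib.Fischer.C24.R14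
import Cfsg.Agent.Lib.Fischer.C24.R15
import Cfsg.Agent.Lib.Fischer.C24.R16
import Cfsg.Agent.Lib.Fischer.C24.R17
import Cfsg.Agent.Lib.Fischer.C24.R18
import Cfsg.Agent.Lib.Fischer.C24.R19
import Cfsg.Agent.Lib.Fischer.C24.R20

set_option autoImplicit false
set_option maxRecDepth 100000

namespace Cfsg.Agent.Fi.C24

open Cfsg.Agent.PC

theorem rows : ∀ i < 306936, row i = 0 := by
  have h := zero_lt_zero row
  have h := zero_lt_add (a := nat_lit 0) (n := nat_lit 3000) (b := nat_lit 3000) h r0 rfl
  have h := zero_lt_add (a := nat_lit 3000) (n := nat_lit 3000) (b := nat_lit 6000) h r3000 rfl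
  have h := zero_lt_add (a := nat_lit 6000) (n := nat_lit 3000) (b := nat_lit 9000) h r6000 rfl
  have h := zero_lt_add (a := nat_lit 9000) (n := nat_lit 3000) (b := nat_lit 12000) h r9000 rfl
  have h := zero_lt_add (a := nat_lit 12000) (n := nat_lit 3000) (b := nat_lit 15000) h r12000 rfl
  have h := zero_lt_add (a := nat_lit 15000) (n := nat_lit 3000) (b := nat_lit 18000) h r15000 rfl
  have h := zero_lt_add (a := nat_lit 18000) (n := nat_lit 3000) (b := nat_lit 21000) h r18000 rfl
  have h := zero_lt_add (a := nat_lit 21000) (n := nat_lit 3000) (b := nat_lit 24000) h r21000 rfl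
  have h := zero_lt_add (a := nat_lit 24000) (n := nat_lit 3000) (b := nat_lit 27000) h r24000 rfl
  have h := zero_lt_add (a := nat_lit 27000) (n := nat_lit 3000) (b := nat_lit 30000) h r27000 rfl
  have h := zero_lt_add (a := nat_lit 30000) (n := nat_lit 3000) (b := nat_lit 33000) h r30000 rfl
  have h := zero_lt_add (a := nat_lit 33000) (n := nat_lit 3000) (b := nat_lit 36000) h r33000 rfl
  have h := zero_lt_add (a := nat_lit 36000) (n := nat_lit 3000) (b := nat_lit 39000) h r36000 rfl
  have h := zero_lt_add (a := nat_lit 39000) (n := nat_lit 3000) (b := nat_lit 42000) h r39000 rfl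
  have h := zero_lt_add (a := nat_lit 42000) (n := nat_lit 3000) (b := nat_lit 45000) h r42000 rfl
  have h := zero_lt_add (a := nat_lit 45000) (n := nat_lit 3000) (b := nat_lit 48000) h r45000 rfl
  have h := zero_lt_add (a := nat_lit 48000) (n := nat_lit 3000) (b := nat_lit 51000) h r48000 rfl
  have h := zero_lt_add (a := nat_lit 51000) (n := nat_lit 3000) (b := nat_lit 54000) h r51000 rfl
  have h := zero_lt_add (a := nat_lit 54000) (n := nat_lit 3000) (b := nat_lit 57000) h r54000 rfl
  have h := zero_lt_add (a := nat_lit 57000) (n := nat_lit 3000) (b := nat_lit 60000) h r57000 rfl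
  have h := zero_lt_add (a := nat_lit 60000) (n := nat_lit 3000) (b := nat_lit 63000) h r60000 rfl
  have h := zero_lt_add (a := nat_lit 63000) (n := nat_lit 3000) (b := nat_lit 66000) h r63000 rfl
  have h := zero_lt_add (a := nat_lit 66000) (n := nat_lit 3000) (b := nat_lit 69000) h r66000 rfl
  have h := zero_lt_add (a := nat_lit 69000) (n := nat_lit 3000) (b := nat_lit 72000) h r69000 rfl
  have h := zero_lt_add (a := nat_lit 72000) (n := nat_lit 3000) (b := nat_lit 75000) h r72000 rfl
  have h := zero_lt_add (a := nat_lit 75000) (n := nat_lit 3000) (b := nat_lit 78000) h r75000 rfl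
  have h := zero_lt_add (a := nat_lit 78000) (n := nat_lit 3000) (b := nat_lit 81000) h r78000 rfl
  have h := zero_lt_add (a := nat_lit 81000) (n := nat_lit 3000) (b := nat_lit 84000) h r81000 rfl
  have h := zero_lt_add (a := nat_lit 84000) (n := nat_lit 3000) (b := nat_lit 87000) h r84000 rfl
  have h := zero_lt_add (a := nat_lit 87000) (n := nat_lit 3000) (b := nat_lit 90000) h r87000 rfl
  have h := zero_lt_add (a := nat_lit 90000) (n := nat_lit 3000) (b := nat_lit 93000) h r90000 rfl
  have h := zero_lt_add (a := nat_lit 93000) (n := nat_lit 3000) (b := nat_lit 96000) h r93000 rfl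
  have h := zero_lt_add (a := nat_lit 96000) (n := nat_lit 3000) (b := nat_lit 99000) h r96000 rfl
  have h := zero_lt_add (a := nat_lit 99000) (n := nat_lit 3000) (b := nat_lit 102000) h r99000 rfl
  have h := zero_lt_add (a := nat_lit 102000) (n := nat_lit 3000) (b := nat_lit 105000) h r102000 rfl
  have h := zero_lt_add (a := nat_lit 105000) (n := nat_lit 3000) (b := nat_lit 108000) h r105000 rfl
  have h := zero_lt_add (a := nat_lit 108000) (n := nat_lit 3000) (b := nat_lit 111000) h r108000 rfl
  have h := zero_lt_add (a := nat_lit 111000) (n := nat_lit 3000) (b := nat_lit 114000) h r111000 rfl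
  have h := zero_lt_add (a := nat_lit 114000) (n := nat_lit 3000) (b := nat_lit 117000) h r114000 rfl
  have h := zero_lt_add (a := nat_lit 117000) (n := nat_lit 3000) (b := nat_lit 120000) h r117000 rfl
  have h := zero_lt_add (a := nat_lit 120000) (n := nat_lit 3000) (b := nat_lit 123000) h r120000 rfl
  have h := zero_lt_add (a := nat_lit 123000) (n := nat_lit 3000) (b := nat_lit 126000) h r123000 rfl
  have h := zero_lt_add (a := nat_lit 126000) (n := nat_lit 3000) (b := nat_lit 129000) h r126000 rfl
  have h := zero_lt_add (a := nat_lit 129000) (n := nat_lit 3000) (b := nat_lit 132000) h r129000 rfl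
  have h := zero_lt_add (a := nat_lit 132000) (n := nat_lit 3000) (b := nat_lit 135000) h r132000 rfl
  have h := zero_lt_add (a := nat_lit 135000) (n := nat_lit 3000) (b := nat_lit 138000) h r135000 rfl
  have h := zero_lt_add (a := nat_lit 138000) (n := nat_lit 3000) (b := nat_lit 141000) h r138000 rfl
  have h := zero_lt_add (a := nat_lit 141000) (n := nat_lit 3000) (b := nat_lit 144000) h r141000 rfl
  have h := zero_lt_add (a := nat_lit 144000) (n := nat_lit 3000) (b := nat_lit 147000) h r144000 rfl
  have h := zero_lt_add (a := nat_lit 147000) (n := nat_lit 3000) (b := nat_lit 150000) h r147000 rfl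
  have h := zero_lt_add (a := nat_lit 150000) (n := nat_lit 3000) (b := nat_lit 153000) h r150000 rfl
  have h := zero_lt_add (a := nat_lit 153000) (n := nat_lit 3000) (b := nat_lit 156000) h r153000 rfl
  have h := zero_lt_add (a := nat_lit 156000) (n := nat_lit 3000) (b := nat_lit 159000) h r156000 rfl
  have h := zero_lt_add (a := nat_lit 159000) (n := nat_lit 3000) (b := nat_lit 162000) h r159000 rfl
  have h := zero_lt_add (a := nat_lit 162000) (n := nat_lit 3000) (b := nat_lit 165000) h r162000 rfl
  have h := zero_lt_add (a := nat_lit 165000) (n := nat_lit 3000) (b := nat_lit 168000) h r165000 rfl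
  have h := zero_lt_add (a := nat_lit 168000) (n := nat_lit 3000) (b := nat_lit 171000) h r168000 rfl
  have h := zero_lt_add (a := nat_lit 171000) (n := nat_lit 3000) (b := nat_lit 174000) h r171000 rfl
  have h := zero_lt_add (a := nat_lit 174000) (n := nat_lit 3000) (b := nat_lit 177000) h r174000 rfl
  have h := zero_lt_add (a := nat_lit 177000) (n := nat_lit 3000) (b := nat_lit 180000) h r177000 rfl
  have h := zero_lt_add (a := nat_lit 180000) (n := nat_lit 3000) (b := nat_lit 183000) h r180000 rfl
  have h := zero_lt_add (a := nat_lit 183000) (n := nat_lit 3000) (b := nat_lit 186000) h r183000 rfl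
  have h := zero_lt_add (a := nat_lit 186000) (n := nat_lit 3000) (b := nat_lit 189000) h r186000 rfl
  have h := zero_lt_add (a := nat_lit 189000) (n := nat_lit 3000) (b := nat_lit 192000) h r189000 rfl
  have h := zero_lt_add (a := nat_lit 192000) (n := nat_lit 3000) (b := nat_lit 195000) h r192000 rfl
  have h := zero_lt_add (a := nat_lit 195000) (n := nat_lit 3000) (b := nat_lit 198000) h r195000 rfl
  have h := zero_lt_add (a := nat_lit 198000) (n := nat_lit 3000) (b := nat_lit 201000) h r198000 rfl
  have h := zero_lt_add (a := nat_lit 201000) (n := nat_lit 3000) (b := nat_lit 204000) h r201000 rfl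
  have h := zero_lt_add (a := nat_lit 204000) (n := nat_lit 3000) (b := nat_lit 207000) h r204000 rfl
  have h := zero_lt_add (a := nat_lit 207000) (n := nat_lit 3000) (b := nat_lit 210000) h r207000 rfl
  have h := zero_lt_add (a := nat_lit 210000) (n := nat_lit 3000) (b := nat_lit 213000) h r210000 rfl
  have h := zero_lt_add (a := nat_lit 213000) (n := nat_lit 3000) (b := nat_lit 216000) h r213000 rfl
  have h := zero_lt_add (a := nat_lit 216000) (n := nat_lit 3000) (b := nat_lit 219000) h r216000 rfl
  have h := zero_lt_add (a := nat_lit 219000) (n := nat_lit 3000) (b := nat_lit 222000) h r219000 rfl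
  have h := zero_lt_add (a := nat_lit 222000) (n := nat_lit 3000) (b := nat_lit 225000) h r222000 rfl
  have h := zero_lt_add (a := nat_lit 225000) (n := nat_lit 3000) (b := nat_lit 228000) h r225000 rfl
  have h := zero_lt_add (a := nat_lit 228000) (n := nat_lit 3000) (b := nat_lit 231000) h r228000 rfl
  have h := zero_lt_add (a := nat_lit 231000) (n := nat_lit 3000) (b := nat_lit 234000) h r231000 rfl
  have h := zero_lt_add (a := nat_lit 234000) (n := nat_lit 3000) (b := nat_lit 237000) h r234000 rfl
  have h := zero_lt_add (a := nat_lit 237000) (n := nat_lit 3000) (b := nat_lit 240000) h r237000 rfl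
  have h := zero_lt_add (a := nat_lit 240000) (n := nat_lit 3000) (b := nat_lit 243000) h r240000 rfl
  have h := zero_lt_add (a := nat_lit 243000) (n := nat_lit 3000) (b := nat_lit 246000) h r243000 rfl
  have h := zero_lt_add (a := nat_lit 246000) (n := nat_lit 3000) (b := nat_lit 249000) h r246000 rfl
  have h := zero_lt_add (a := nat_lit 249000) (n := nat_lit 3000) (b := nat_lit 252000) h r249000 rfl
  have h := zero_lt_add (a := nat_lit 252000) (n := nat_lit 3000) (b := nat_lit 255000) h r252000 rfl
  have h := zero_lt_add (a := nat_lit 255000) (n := nat_lit 3000) (b := nat_lit 258000) h r255000 rfl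
  have h := zero_lt_add (a := nat_lit 258000) (n := nat_lit 3000) (b := nat_lit 261000) h r258000 rfl
  have h := zero_lt_add (a := nat_lit 261000) (n := nat_lit 3000) (b := nat_lit 264000) h r261000 rfl
  have h := zero_lt_add (a := nat_lit 264000) (n := nat_lit 3000) (b := nat_lit 267000) h r264000 rfl
  have h := zero_lt_add (a := nat_lit 267000) (n := nat_lit 3000) (b := nat_lit 270000) h r267000 rfl
  have h := zero_lt_add (a := nat_lit 270000) (n := nat_lit 3000) (b := nat_lit 273000) h r270000 rfl
  have h := zero_lt_add (a := nat_lit 273000) (n := nat_lit 3000) (b := nat_lit 276000) h r273000 rfl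
  have h := zero_lt_add (a := nat_lit 276000) (n := nat_lit 3000) (b := nat_lit 279000) h r276000 rfl
  have h := zero_lt_add (a := nat_lit 279000) (n := nat_lit 3000) (b := nat_lit 282000) h r279000 rfl
  have h := zero_lt_add (a := nat_lit 282000) (n := nat_lit 3000) (b := nat_lit 285000) h r282000 rfl
  have h := zero_lt_add (a := nat_lit 285000) (n := nat_lit 3000) (b := nat_lit 288000) h r285000 rfl
  have h := zero_lt_add (a := nat_lit 288000) (n := nat_lit 3000) (b := nat_lit 291000) h r288000 rfl
  have h := zero_lt_add (a := nat_lit 291000) (n := nat_lit 3000) (b := nat_lit 294000) h r291000 rfl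
  have h := zero_lt_add (a := nat_lit 294000) (n := nat_lit 3000) (b := nat_lit 297000) h r294000 rfl
  have h := zero_lt_add (a := nat_lit 297000) (n := nat_lit 3000) (b := nat_lit 300000) h r297000 rfl
  have h := zero_lt_add (a := nat_lit 300000) (n := nat_lit 3000) (b := nat_lit 303000) h r300000 rfl
  have h := zero_lt_add (a := nat_lit 303000) (n := nat_lit 3000) (b := nat_lit 306000) h r303000 rfl
  have h := zero_lt_add (a := nat_lit 306000) (n := nat_lit 936) (b := nat_lit 306936) h r306000 rfl
  exact h
theorem auxs : ∀ i < 1438, aux i = 0 := by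
  have h := zero_lt_zero aux
  have h := zero_lt_add (a := nat_lit 0) (n := nat_lit 1438) (b := nat_lit 1438) h a0 rfl
  exact h
theorem closes.{u} : ClosesT.{u} (fun j => j) rels 12 11 306936 T :=
  hc_closes (N1 := nat_lit 306935) rfl T_eq (by decide +kernel) rows auxs
theorem T_inv : ∀ c < 306936, ∀ j < 12, T j c < 306936 ∧ T j (T j c) = c :=
  hc_inv (inv := fun j => j) (N1 := nat_lit 306935) rfl T_eq rows

end Cfsg.Agent.Fi.C24
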