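import Cfsg.Agent.Lib.Fischer.C24.A

set_option autoImplicit false
set_option maxRecDepth 100000

namespace Cfsg.Agent.Fi.C24

open Cfsg.Agent.PC

theorem r210000 : Nat.beq (rng row (nat_lit 210000) (nat_lit 3000)) (nat_lit 0) = true := by decide +kernel
theorem r213000 : Nat.beq (rng row (nat_lit 213000) (nat_lit 3000)) (nat_lit 0) = true := by decide +kernel
theorem r216000 : Nat.beq (rng row (nat_lit 216000) (nat_lit 3000)) (nat_lit 0) = true := by decide +kernel
theorem r219000 : Nat.beq (rng row (nat_lit 219000) (nat_lit 3000)) (nat_lit 0) = true := by decide +kernel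
theorem r222000 : Nat.beq (rng row (nat_lit 222000) (nat_lit 3000)) (nat_lit 0) = true := by decide +kernel

end Cfsg.Agent.Fi.C24
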