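import Cfsg.Agent.Lib.Fischer.C24.T0
import Cfsg.Agent.Lib.Fischer.C24.T2
import Cfsg.Agent.Lib.Fischer.C24.T4
import Cfsg.Agent.Lib.Fischer.C24.T6
import Cfsg.Agent.Lib.Fischer.C24.T8
import Cfsg.Agent.Lib.Fischer.C24.T10

set_option autoImplicit false
set_option maxRecDepth 100000

namespace Cfsg.Agent.Fi.C24

open Cfsg.Agent.PC

def tt : TN := (TN.node (TN.node (TN.node (TN.node t0x t8x) (TN.node t4x (TN.leaf (nat_lit 0)))) (TN.node (TN.node t2x t10x) (TN.node t6x (TN.leaf (nat_lit 0))))) (TN.node (TN.node (TN.node t1x t9x) (TN.node t5x (TN.leaf (nat_lit 0)))) (TN.node (TN.node t3x t11x) (TN.node t7x (TN.leaf (nat_lit 0))))))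
noncomputable def T (j c : ℕ) : ℕ := getL tt (nat_lit 38) (nat_lit 524287) j c
noncomputable def E (j c : ℕ) : ℕ := getL tt (nat_lit 38) (nat_lit 0x3fffffffff) j c
theorem T_eq (j c : ℕ) : T j c = E j c % 524288 :=
  getL_mod (a := 19) (b := 38) _ _ (by norm_num) (by norm_num) (by norm_num) (by norm_num) j c
def rels : List (List ℕ) := [[nat_lit 0, nat_lit 1, nat_lit 0, nat_lit 1], [nat_lit 0, nat_lit 2, nat_lit 0, nat_lit 2], [nat_lit 0, nat_lit 3, nat_lit 0, nat_lit 3], [nat_lit 0, nat_lit 4, nat_lit 0, nat_lit 4], [nat_lit 0, nat_lit 5, nat_lit 0, nat_lit 5], [nat_lit 0, nat_lit 6, nat_lit 0, nat_lit 6], [nat_lit 0, nat_lit 7, nat_lit 0, nat_lit 7], [nat_lit 0, nat_lit 8, nat_lit 0, nat_lit 8], [nat_lit 0, nat_lit 9, nat_lit 0, nat_lit 9], [nat_lit 0, nat_lit 10, nat_lit 0, nat_lit 10], [nat_lit 0, nat_lit 11, nat_lit 0, nat_lit 11, nat_lit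 0, nat_lit 11], [nat_lit 1, nat_lit 2, nat_lit 1, nat_lit 2, nat_lit 1, nat_lit 2], [nat_lit 1, nat_lit 3, nat_lit 1, nat_lit 3], [nat_lit 1, nat_lit 4, nat_lit 1, nat_lit 4], [nat_lit 1, nat_lit 5, nat_lit 1, nat_lit 5], [nat_lit 1, nat_lit 6, nat_lit 1, nat_lit 6], [nat_lit 1, nat_lit 7, nat_lit 1, nat_lit 7], [nat_lit 1, nat_lit 8, nat_lit 1, nat_lit 8], [nat_lit 1, nat_lit 9, nat_lit 1, nat_lit 9], [nat_lit 1, nat_lit 10, nat_lit 1, nat_lit 10], [nat_lit 1, nat_lit 11, nat_lit 1, nat_lit 11, nat_lit 1, nat_lit 11], [nat_lit 2, nat_lit 3, nat_lit 2, nat_lit 3, nat_lit 2, nat_lit 3], [nat_lit 2, nat_lit 4, nat_lit 2, nat_lit 4], [nat_lit 2, nat_lit 5, nat_lit 2, nat_lit 5], [nat_lit 2, nat_lit 6, nat_lit 2, nat_lit 6], [nat_lit 2, nat_lit 7, nat_lit 2, nat_lit 7], [nat_lit 2, nat_lit 8, nat_lit 2, nat_lit 8], [nat_lit 2, nat_lit 9, nat_lit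 2, nat_lit 9], [nat_lit 2, nat_lit 10, nat_lit 2, nat_lit 10], [nat_lit 2, nat_lit 11, nat_lit 2, nat_lit 11], [nat_lit 3, nat_lit 4, nat_lit 3, nat_lit 4, nat_lit 3, nat_lit 4], [nat_lit 3, nat_lit 5, nat_lit 3, nat_lit 5], [nat_lit 3, nat_lit 6, nat_lit 3, nat_lit 6], [nat_lit 3, nat_lit 7, nat_lit 3, nat_lit 7], [nat_lit 3, nat_lit 8, nat_lit 3, nat_lit 8], [nat_lit 3, nat_lit 9, nat_lit 3, nat_lit 9], [nat_lit 3, nat_lit 10, nat_lit 3, nat_lit 10], [nat_lit 3, nat_lit 11, nat_lit 3, nat_lit 11], [nat_lit 4, nat_lit 5, nat_lit 4, nat_lit 5, nat_lit 4, nat_lit 5], [nat_lit 4, nat_lit 6, nat_lit 4, nat_lit 6], [nat_lit 4, nat_lit 7, nat_lit 4, nat_lit 7], [nat_lit 4, nat_lit 8, nat_lit 4, nat_lit 8, nat_lit 4, nat_lit 8], [nat_lit 4, nat_lit 9, nat_lit 4, nat_lit 9], [nat_lit 4, nat_lit 10, nat_lit 4, nat_lit 10], [nat_lit 4, nat_lit 11,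 nat_lit 4, nat_lit 11], [nat_lit 5, nat_lit 6, nat_lit 5, nat_lit 6, nat_lit 5, nat_lit 6], [nat_lit 5, nat_lit 7, nat_lit 5, nat_lit 7], [nat_lit 5, nat_lit 8, nat_lit 5, nat_lit 8], [nat_lit 5, nat_lit 9, nat_lit 5, nat_lit 9], [nat_lit 5, nat_lit 10, nat_lit 5, nat_lit 10], [nat_lit 5, nat_lit 11, nat_lit 5, nat_lit 11], [nat_lit 6, nat_lit 7, nat_lit 6, nat_lit 7, nat_lit 6, nat_lit 7], [nat_lit 6, nat_lit 8, nat_lit 6, nat_lit 8], [nat_lit 6, nat_lit 9, nat_lit 6, nat_lit 9], [nat_lit 6, nat_lit 10, nat_lit 6, nat_lit 10], [nat_lit 6, nat_lit 11, nat_lit 6, nat_lit 11], [nat_lit 7, nat_lit 8, nat_lit 7, nat_lit 8], [nat_lit 7, nat_lit 9, nat_lit 7, nat_lit 9], [nat_lit 7, nat_lit 10, nat_lit 7, nat_lit 10, nat_lit 7, nat_lit 10], [nat_lit 7, nat_lit 11, nat_lit 7, nat_lit 11], [nat_lit 8, nat_lit 9, nat_lit 8, nat_lit 9, nat_lit 8, nat_lit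 9], [nat_lit 8, nat_lit 10, nat_lit 8, nat_lit 10], [nat_lit 8, nat_lit 11, nat_lit 8, nat_lit 11], [nat_lit 9, nat_lit 10, nat_lit 9, nat_lit 10], [nat_lit 9, nat_lit 11, nat_lit 9, nat_lit 11], [nat_lit 10, nat_lit 11, nat_lit 10, nat_lit 11], [nat_lit 4, nat_lit 3, nat_lit 2, nat_lit 4, nat_lit 5, nat_lit 6, nat_lit 4, nat_lit 8, nat_lit 9, nat_lit 4, nat_lit 3, nat_lit 2, nat_lit 4, nat_lit 5, nat_lit 6, nat_lit 4, nat_lit 8, nat_lit 9, nat_lit 4, nat_lit 3, nat_lit 2, nat_lit 4, nat_lit 5, nat_lit 6, nat_lit 4, nat_lit 8, nat_lit 9, nat_lit 4, nat_lit 3, nat_lit 2, nat_lit 4, nat_lit 5, nat_lit 6, nat_lit 4, nat_lit 8, nat_lit 9, nat_lit 4, nat_lit 3, nat_lit 2, nat_lit 4, nat_lit 5, nat_lit 6, nat_lit 4, nat_lit 8, nat_lit 9, nat_lit 4, nat_lit 3, nat_lit 2, nat_lit 4, nat_lit 5, nat_lit 6, nat_lit 4, nat_lit 8, nat_lit 9, nat_lit 4,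 nat_lit 3, nat_lit 2, nat_lit 4, nat_lit 5, nat_lit 6, nat_lit 4, nat_lit 8, nat_lit 9, nat_lit 4, nat_lit 3, nat_lit 2, nat_lit 4, nat_lit 5, nat_lit 6, nat_lit 4, nat_lit 8, nat_lit 9, nat_lit 4, nat_lit 3, nat_lit 2, nat_lit 4, nat_lit 5, nat_lit 6, nat_lit 4, nat_lit 8, nat_lit 9, nat_lit 4, nat_lit 3, nat_lit 2, nat_lit 4, nat_lit 5, nat_lit 6, nat_lit 4, nat_lit 8, nat_lit 9], [nat_lit 0, nat_lit 1, nat_lit 2, nat_lit 3, nat_lit 4, nat_lit 8, nat_lit 5, nat_lit 4, nat_lit 3, nat_lit 2, nat_lit 1, nat_lit 2, nat_lit 3, nat_lit 4, nat_lit 5, nat_lit 8, nat_lit 4, nat_lit 3, nat_lit 2, nat_lit 6, nat_lit 5, nat_lit 4, nat_lit 8, nat_lit 3, nat_lit 4, nat_lit 5, nat_lit 2, nat_lit 3, nat_lit 4, nat_lit 8, nat_lit 6, nat_lit 5, nat_lit 4, nat_lit 3, nat_lit 2, nat_lit 1, nat_lit 2, nat_lit 3, nat_lit 4, nat_lit 5, nat_lit 6, nat_lit 8, nat_lit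 4, nat_lit 3, nat_lit 2, nat_lit 5, nat_lit 4, nat_lit 3, nat_lit 8, nat_lit 4, nat_lit 5, nat_lit 6, nat_lit 3, nat_lit 5, nat_lit 8, nat_lit 4, nat_lit 8, nat_lit 5, nat_lit 4, nat_lit 3, nat_lit 4, nat_lit 5, nat_lit 8, nat_lit 4], [nat_lit 1, nat_lit 2, nat_lit 3, nat_lit 4, nat_lit 5, nat_lit 6, nat_lit 7, nat_lit 10, nat_lit 8, nat_lit 9, nat_lit 4, nat_lit 8, nat_lit 5, nat_lit 6, nat_lit 3, nat_lit 4, nat_lit 5, nat_lit 2, nat_lit 3, nat_lit 4, nat_lit 8, nat_lit 9, nat_lit 6, nat_lit 4, nat_lit 5, nat_lit 2, nat_lit 3, nat_lit 4, nat_lit 8, nat_lit 7, nat_lit 6, nat_lit 5, nat_lit 4, nat_lit 3, nat_lit 2, nat_lit 1, nat_lit 2, nat_lit 3, nat_lit 4, nat_lit 5, nat_lit 6, nat_lit 7, nat_lit 8, nat_lit 4, nat_lit 3, nat_lit 2, nat_lit 5, nat_lit 4, nat_lit 6, nat_lit 9, nat_lit 8, nat_lit 4, nat_lit 3, nat_lit 2, nat_lit 5, nat_lit 4,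 nat_lit 3, nat_lit 6, nat_lit 5, nat_lit 8, nat_lit 4, nat_lit 9, nat_lit 8, nat_lit 10, nat_lit 7, nat_lit 6, nat_lit 5, nat_lit 4, nat_lit 3, nat_lit 2, nat_lit 1, nat_lit 11, nat_lit 1, nat_lit 2, nat_lit 3, nat_lit 4, nat_lit 5, nat_lit 6, nat_lit 7, nat_lit 10, nat_lit 8, nat_lit 9, nat_lit 4, nat_lit 8, nat_lit 5, nat_lit 6, nat_lit 3, nat_lit 4, nat_lit 5, nat_lit 2, nat_lit 3, nat_lit 4, nat_lit 8, nat_lit 9, nat_lit 6, nat_lit 4, nat_lit 5, nat_lit 2, nat_lit 3, nat_lit 4, nat_lit 8, nat_lit 7, nat_lit 6, nat_lit 5, nat_lit 4, nat_lit 3, nat_lit 2, nat_lit 1, nat_lit 2, nat_lit 3, nat_lit 4, nat_lit 5, nat_lit 6, nat_lit 7, nat_lit 8, nat_lit 4, nat_lit 3, nat_lit 2, nat_lit 5, nat_lit 4, nat_lit 6, nat_lit 9, nat_lit 8, nat_lit 4, nat_lit 3, nat_lit 2, nat_lit 5, nat_lit 4, nat_lit 3, nat_lit 6, nat_lit 5, nat_lit 8, nat_lit 4, nat_lit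 9, nat_lit 8, nat_lit 10, nat_lit 7, nat_lit 6, nat_lit 5, nat_lit 4, nat_lit 3, nat_lit 2, nat_lit 1, nat_lit 11]]

end Cfsg.Agent.Fi.C24
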